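import Cfsg.Agent.Lib.Basics.Cores
import Cfsg.Agent.S4496
import Mathlib.GroupTheory.Transfer
import Mathlib.GroupTheory.SpecificGroups.Cyclic
import Mathlib.GroupTheory.Solvable

/-!
# Groups with a self-centralizing element of prime order

Elementary structure: the normalizer, the commutator subgroup and the largest normal subgroup
of order prime to `p`.
-/

set_option linter.unusedSectionVars false

namespace Cfsg.Agent.SelfCentPrime

open Subgroup
open scoped commutatorElement

universe u

variable {G : Type u} [Group G] [Finite G] {p : ℕ} {x : G}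

/-- An element of prime order `p` centralizing only its powers. -/
structure Hyp (p : ℕ) (x : G) : Prop where
  prime : p.Prime
  ord : orderOf x = p
  cent : Subgroup.centralizer ({x} : Set G) = Subgroup.zpowers x

/-- The index of the subgroup generated by the element in its normalizer. -/
noncomputable def idx (x : G) : ℕ :=
  (Subgroup.zpowers x).relIndex (Subgroup.normalizer (Subgroup.zpowers x : Set G))

namespace Hyp

variable (h : Hyp p x)
include h

theorem card_zp : Nat.card (zpowers x) = p := by rw [Nat.card_zpowers, h.ord]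

theorem mem_of_commute {g : G} (hg : g * x = x * g) : g ∈ zpowers x := by
  rw [← h.cent, mem_centralizer_singleton_iff]; exact hg

theorem zpowers_eq {z : G} (hz : z ∈ zpowers x) (hz1 : z ≠ 1) : zpowers z = zpowers x := by
  refine eq_of_le_of_card_ge (Subgroup.zpowers_le.mpr hz) (le_of_eq ?_)
  rw [h.card_zp]
  refine ((h.prime.eq_one_or_self_of_dvd _ (h.card_zp ▸ card_dvd_of_le (Subgroup.zpowers_le.mpr hz)))
    |>.resolve_left ?_).symm
  rw [Nat.card_zpowers, orderOf_eq_one_iff]
  exact hz1

theorem exists_sylow : ∃ P : Sylow p G, (P : Subgroup G) = zpowers x := by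
  haveI := Fact.mk h.prime
  have hxp : IsPGroup p (zpowers x) := IsPGroup.of_card (n := 1) (by rw [h.card_zp, pow_one])
  obtain ⟨P, hP⟩ := hxp.exists_le_sylow
  refine ⟨P, le_antisymm ?_ hP⟩
  haveI : Nontrivial ↥(P : Subgroup G) := (nontrivial_iff_ne_bot _).mpr fun e => by
    have := hP (mem_zpowers x)
    rw [e, mem_bot] at this
    exact h.prime.ne_one (by rw [← h.ord, this, orderOf_one])
  haveI : Nontrivial (center ↥(P : Subgroup G)) := P.2.center_nontrivial
  obtain ⟨z, hz⟩ := exists_ne (1 : center ↥(P : Subgroup G))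
  set z' : G := ((z : ↥(P : Subgroup G)) : G)
  have hz1 : z' ≠ 1 := fun e => hz (Subtype.ext (Subtype.ext e))
  have hzC : z' ∈ zpowers x :=
    h.mem_of_commute (congrArg Subtype.val (mem_center_iff.mp z.2 ⟨x, hP (mem_zpowers x)⟩) :).symm
  have hgen := h.zpowers_eq hzC hz1
  intro g hg
  refine h.mem_of_commute ?_
  obtain ⟨i, hi⟩ := mem_zpowers_iff.mp (hgen ▸ mem_zpowers x : x ∈ zpowers z')
  have h1 : Commute g z' := (congrArg Subtype.val (mem_center_iff.mp z.2 ⟨g, hg⟩) :)
  rw [← hi]
  exact (h1.zpow_right i).eq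

theorem le_normalizer' : zpowers x ≤ normalizer (zpowers x : Set G) := le_normalizer

theorem card_normalizer : Nat.card (normalizer (zpowers x : Set G)) = idx x * p := by
  rw [← h.card_zp, idx, Subgroup.relIndex]
  rw [← Nat.card_congr (subgroupOfEquivOfLe h.le_normalizer').toEquiv, index_mul_card]

theorem card_subgroups : Nat.card {H : Subgroup G // Nat.card H = p} =
    (normalizer (zpowers x : Set G)).index := by
  haveI := Fact.mk h.prime
  obtain ⟨P, hP⟩ := h.exists_sylow
  rw [← hP]
  refine Eq.trans ?_ P.card_eq_index_normalizer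
  refine Nat.card_congr (Equiv.ofBijective (fun Q : {H : Subgroup G // Nat.card H = p} =>
    (IsPGroup.of_card (n := 1) (by rw [Q.2, pow_one])).toSylow ?_) ⟨?_, ?_⟩)
  · intro hd
    refine P.not_dvd_index (hd.trans (dvd_of_eq ?_))
    have e1 := card_mul_index Q.1
    have e2 := card_mul_index (P : Subgroup G)
    rw [hP, h.card_zp] at e2
    rw [Q.2] at e1
    rw [hP]
    exact Nat.eq_of_mul_eq_mul_left h.prime.pos (e1.trans e2.symm)
  · intro Q Q' e
    exact Subtype.ext (by simpa using congrArg Sylow.toSubgroup e)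
  · intro Q
    refine ⟨⟨(Q : Subgroup G), ?_⟩, Sylow.ext (by simp)⟩
    rw [Nat.card_congr (P.equiv Q).toEquiv.symm, hP, h.card_zp]

/-- Any element of order `p` generates a conjugate subgroup. -/
theorem exists_conj {g : G} (hg : orderOf g = p) : ∃ c : G, c * g * c⁻¹ ∈ zpowers x := by
  haveI := Fact.mk h.prime
  obtain ⟨P, hP⟩ := h.exists_sylow
  obtain ⟨Q, hQ⟩ := (IsPGroup.of_card (n := 1) (by rw [Nat.card_zpowers, hg, pow_one]) :
    IsPGroup p (zpowers g)).exists_le_sylow
  obtain ⟨c, hc⟩ := MulAction.exists_smul_eq G Q P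
  exact ⟨c, by rw [← hP, ← hc]; exact ⟨g, hQ (mem_zpowers g), rfl⟩⟩

theorem card_centralizer {g : G} (hg : orderOf g = p) :
    Nat.card (centralizer ({g} : Set G)) = p := by
  obtain ⟨c, hc⟩ := h.exists_conj hg
  have hne : c * g * c⁻¹ ≠ 1 := fun e => h.prime.ne_one (by
    rw [← hg, conj_eq_one_iff.mp e, orderOf_one])
  have hgen := h.zpowers_eq hc hne
  have hcen : centralizer ({c * g * c⁻¹} : Set G) = zpowers x := by
    refine le_antisymm (fun w hw => h.mem_of_commute ?_) fun w hw => ?_
    · rw [mem_centralizer_singleton_iff] at hw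
      obtain ⟨i, hi⟩ := mem_zpowers_iff.mp (hgen ▸ mem_zpowers x : x ∈ zpowers (c * g * c⁻¹))
      rw [← hi]
      exact ((show Commute w (c * g * c⁻¹) from hw).zpow_right i).eq
    · rw [mem_centralizer_singleton_iff]
      obtain ⟨i, rfl⟩ := mem_zpowers_iff.mp hw
      obtain ⟨j, hj⟩ := mem_zpowers_iff.mp hc
      rw [← hj]
      exact (Commute.zpow_zpow_self x i j).eq
  rw [← h.card_zp, ← hcen]
  refine Nat.card_congr (Equiv.subtypeEquiv (MulAut.conj c).toEquiv fun w => ?_)
  simp only [MulEquiv.toEquiv_eq_coe, EquivLike.coe_coe, MulAut.conj_apply,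
    mem_centralizer_singleton_iff]
  constructor
  · intro e
    calc c * w * c⁻¹ * (c * g * c⁻¹) = c * (w * g) * c⁻¹ := by group
      _ = _ := by rw [e]; group
  · intro e
    calc w * g = c⁻¹ * (c * w * c⁻¹ * (c * g * c⁻¹)) * c := by group
      _ = _ := by rw [e]; group

theorem card_elements : Nat.card {g : G // orderOf g = p} =
    (normalizer (zpowers x : Set G)).index * (p - 1) := by
  classical
  haveI := Fintype.ofFinite G
  rw [← h.card_subgroups]
  haveI := Fintype.ofFinite {H : Subgroup G // Nat.card H = p}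
  have hord : ∀ {H : Subgroup G}, Nat.card H = p → ∀ {g : G}, g ∈ H → g ≠ 1 → orderOf g = p :=
    fun hH _ hg hg1 => ((Nat.dvd_prime h.prime).mp
      ((Subgroup.orderOf_dvd_natCard _ hg).trans (dvd_of_eq hH))).resolve_left
      fun e => hg1 (orderOf_eq_one_iff.mp e)
  let F : (Σ H : {H : Subgroup G // Nat.card H = p}, {y : H.1 // y ≠ 1}) → {g : G // orderOf g = p} :=
    fun s => ⟨((s.2 : s.1.1) : G), hord s.1.2 s.2.1.2 fun e => s.2.2 (Subtype.ext e)⟩
  have hF : Function.Bijective F := by
    constructor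
    · rintro ⟨⟨H, hH⟩, ⟨a, ha⟩, ha1⟩ ⟨⟨K, hK⟩, ⟨b, hb⟩, hb1⟩ e
      obtain rfl : a = b := congrArg Subtype.val e
      have hz : ∀ {L : Subgroup G}, Nat.card L = p → a ∈ L → zpowers a = L := fun hL haL =>
        eq_of_le_of_card_ge (Subgroup.zpowers_le.mpr haL) (by
          rw [hL, Nat.card_zpowers, hord hH ha fun e => ha1 (Subtype.ext e)])
      obtain rfl : H = K := (hz hH ha).symm.trans (hz hK hb)
      rfl
    · intro g
      refine ⟨⟨⟨zpowers g.1, by rw [Nat.card_zpowers, g.2]⟩, ⟨g.1, mem_zpowers _⟩, fun e => ?_⟩,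
        Subtype.ext rfl⟩
      exact h.prime.ne_one (by rw [← g.2, show g.1 = 1 from congrArg Subtype.val e, orderOf_one])
  rw [← Nat.card_congr (Equiv.ofBijective F hF), Nat.card_sigma,
    Finset.sum_congr rfl fun (H : {H : Subgroup G // Nat.card H = p}) _ =>
      show Nat.card {y : H.1 // y ≠ 1} = p - 1 by
        haveI := Fintype.ofFinite H.1
        rw [Nat.card_eq_fintype_card, Fintype.card_subtype_compl, Fintype.card_subtype_eq,
          ← Nat.card_eq_fintype_card, H.2],
    Finset.sum_const, Finset.card_univ, ← Nat.card_eq_fintype_card, smul_eq_mul]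

/-- The classes of elements of order `p` correspond to the orbits of the normalizer. -/
theorem classes_mul_idx :
    Nat.card {C : ConjClasses G // ∃ g ∈ C.carrier, orderOf g = p} * idx x = p - 1 := by
  classical
  haveI := Fintype.ofFinite G
  set t := Nat.card {C : ConjClasses G // ∃ g ∈ C.carrier, orderOf g = p} with ht
  set N := normalizer (zpowers x : Set G)
  haveI : Finite (ConjClasses G) := Finite.of_surjective ConjClasses.mk ConjClasses.mk_surjective
  haveI : Fintype {C : ConjClasses G // ∃ g ∈ C.carrier, orderOf g = p} := Fintype.ofFinite _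
  -- count the elements of order `p` by classes
  have h1 : Nat.card {g : G // orderOf g = p} * p = t * Nat.card G := by
    have e1 : Nat.card {g : G // orderOf g = p} =
        ∑ C : {C : ConjClasses G // ∃ g ∈ C.carrier, orderOf g = p}, Nat.card C.1.carrier := by
      rw [← Nat.card_sigma]
      refine Nat.card_congr
        { toFun := fun g => ⟨⟨ConjClasses.mk g.1, g.1, ConjClasses.mem_carrier_mk, g.2⟩,
            g.1, ConjClasses.mem_carrier_mk⟩
          invFun := fun s => ⟨s.2.1, by
            obtain ⟨g, hg, hgo⟩ := s.1.2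
            have : IsConj g s.2.1 := by
              rw [← ConjClasses.mk_eq_mk_iff_isConj, ConjClasses.mem_carrier_iff_mk_eq.mp hg,
                ConjClasses.mem_carrier_iff_mk_eq.mp s.2.2]
            obtain ⟨c, hc⟩ := isConj_iff.mp this
            rw [← hc, ← MulAut.conj_apply, MulEquiv.orderOf_eq, hgo]⟩
          left_inv := fun g => rfl
          right_inv := fun s => by
            obtain ⟨⟨C, hC⟩, g, hg⟩ := s
            obtain rfl := ConjClasses.mem_carrier_iff_mk_eq.mp hg
            rfl }
    rw [e1, Finset.sum_mul, Finset.sum_congr rfl fun C _ => show Nat.card C.1.carrier * p =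
      Nat.card G by
        obtain ⟨g, hg, hgo⟩ := C.2
        rw [← ConjClasses.mem_carrier_iff_mk_eq.mp hg, ← h.card_centralizer hgo,
          Nat.card_coe_set_eq, ← ConjAct.orbit_eq_carrier_conjClasses,
          ← MulAction.index_stabilizer, mul_comm]
        rw [show Nat.card (centralizer ({g} : Set G)) = Nat.card (MulAction.stabilizer (ConjAct G) g)
          from Nat.card_congr (Equiv.subtypeEquiv ConjAct.toConjAct.toEquiv fun w => by
            simp [mem_centralizer_singleton_iff, ConjAct.smul_def, mul_inv_eq_iff_eq_mul])]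
        exact card_mul_index _,
      Finset.sum_const, Finset.card_univ, ← Nat.card_eq_fintype_card, smul_eq_mul, ht]
  rw [h.card_elements, ← card_mul_index N, h.card_normalizer] at h1
  have hN : 0 < N.index := Nat.pos_of_ne_zero index_ne_zero_of_finite
  refine Nat.eq_of_mul_eq_mul_left (Nat.mul_pos hN h.prime.pos) ?_
  simp only [N] at h1 ⊢
  linarith

/-- The commutator map on a normal subgroup of order prime to `p` is onto. -/
theorem le_commutator {S : Subgroup G} [S.Normal] (hS : ¬ p ∣ Nat.card S) : S ≤ commutator G := by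
  intro s hs
  have hdisj : S ⊓ zpowers x = ⊥ := inf_eq_bot_of_coprime
    (by rw [h.card_zp]; exact (h.prime.coprime_iff_not_dvd.mpr hS).symm)
  have hinj : Function.Injective fun v : S => (⟨(v : G)⁻¹ * (x * (v : G) * x⁻¹),
      mul_mem (inv_mem v.2) ((inferInstance : S.Normal).conj_mem _ v.2 x)⟩ : S) := by
    intro a b e
    have e1 : (a : G)⁻¹ * (x * a * x⁻¹) = (b : G)⁻¹ * (x * b * x⁻¹) := congrArg Subtype.val e
    have h2 : (b : G) * (a : G)⁻¹ * x = x * ((b : G) * (a : G)⁻¹) := by
      calc (b : G) * (a : G)⁻¹ * x = (b : G) * ((a : G)⁻¹ * (x * a * x⁻¹)) * x * (a : G)⁻¹ := by group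
        _ = _ := by rw [e1]; group
    exact Subtype.ext (mul_inv_eq_one.mp (mem_bot.mp
      (hdisj.le ⟨S.mul_mem b.2 (S.inv_mem a.2), h.mem_of_commute h2⟩))).symm
  obtain ⟨v, hv⟩ := (Finite.injective_iff_surjective.mp hinj) ⟨s, hs⟩
  have hv' : (v : G)⁻¹ * (x * v * x⁻¹) = s := congrArg Subtype.val hv
  rw [← hv', show (v : G)⁻¹ * (x * v * x⁻¹) = ⁅(v : G)⁻¹, x⁆ by rw [commutatorElement_def]; group,
    _root_.commutator_def]
  exact commutator_mem_commutator (mem_top _) (mem_top _)

theorem pPrimeCore_le : Cfsg.pPrimeCore p G ≤ commutator G := by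
  haveI := Fact.mk h.prime
  exact h.le_commutator (Basics.not_dvd_card_pPrimeCore p)

/-- A normal subgroup of order prime to `p` meets the normalizer trivially. -/
theorem inf_normalizer {S : Subgroup G} [S.Normal] (hS : ¬ p ∣ Nat.card S) :
    S ⊓ normalizer (zpowers x : Set G) = ⊥ := by
  have hdisj : S ⊓ zpowers x = ⊥ := inf_eq_bot_of_coprime
    (by rw [h.card_zp]; exact (h.prime.coprime_iff_not_dvd.mpr hS).symm)
  rw [eq_bot_iff]
  rintro s ⟨hs, hsn⟩
  have h1 : s * x * s⁻¹ * x⁻¹ ∈ S ⊓ zpowers x := by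
    refine mem_inf.mpr ⟨?_, mul_mem ((mem_normalizer_iff.mp hsn x).mp (mem_zpowers x))
      (inv_mem (mem_zpowers x))⟩
    rw [mul_assoc, mul_assoc, ← mul_assoc x]
    exact mul_mem hs ((inferInstance : S.Normal).conj_mem _ (inv_mem hs) x)
  rw [hdisj, mem_bot, mul_inv_eq_one, mul_inv_eq_iff_eq_mul] at h1
  exact hdisj.le ⟨hs, h.mem_of_commute h1⟩

theorem of_idx_eq_one (he : idx x = 1) :
    (commutator G).index = p ∧ commutator G = Cfsg.pPrimeCore p G := by
  haveI := Fact.mk h.prime
  obtain ⟨P, hP⟩ := h.exists_sylow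
  have hle : normalizer (zpowers x : Set G) ≤ zpowers x := relIndex_eq_one.mp he
  have hc : normalizer ((P : Subgroup G) : Set G) ≤ centralizer ((P : Subgroup G) : Set G) := by
    intro g hg w hw
    rw [hP] at hg hw
    obtain ⟨i, rfl⟩ := mem_zpowers_iff.mp (hle hg)
    obtain ⟨j, rfl⟩ := mem_zpowers_iff.mp hw
    exact (Commute.zpow_zpow_self x j i).eq
  have hK := MonoidHom.ker_transferSylow_isComplement' P hc
  set K := (MonoidHom.transferSylow P hc).ker
  have hidx : K.index = p := by rw [hK.symm.index_eq_card, hP, h.card_zp]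
  have hKp : ¬ p ∣ Nat.card K := by
    intro hd
    have := P.not_dvd_index
    rw [hK.index_eq_card] at this
    exact this hd
  have hKle : commutator G ≤ K := by
    haveI : IsMulCommutative ↥(P : Subgroup G) := by
      refine ⟨⟨fun a b => Subtype.ext ?_⟩⟩
      obtain ⟨i, hi⟩ := mem_zpowers_iff.mp (hP ▸ a.2 : (a : G) ∈ zpowers x)
      obtain ⟨j, hj⟩ := mem_zpowers_iff.mp (hP ▸ b.2 : (b : G) ∈ zpowers x)
      show (a : G) * b = b * a
      rw [← hi, ← hj]
      exact (Commute.zpow_zpow_self x i j).eq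
    rw [_root_.commutator_def, Subgroup.commutator_le]
    intro a _ b _
    rw [MonoidHom.mem_ker, map_commutatorElement, commutatorElement_eq_one_iff_mul_comm, mul_comm']
  have hKK : K = commutator G := le_antisymm (h.le_commutator hKp) hKle
  refine ⟨hKK ▸ hidx, le_antisymm ?_ h.pPrimeCore_le⟩
  rw [← hKK]
  exact Basics.le_pPrimeCore ((h.prime.coprime_iff_not_dvd.mpr hKp).symm)

theorem mem_commutator (he : idx x ≠ 1) : x ∈ commutator G := by
  have hnot : ¬ normalizer (zpowers x : Set G) ≤ zpowers x := fun hle => he (relIndex_eq_one.mpr hle)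
  obtain ⟨n, hn, hnx⟩ := SetLike.not_le_iff_exists.mp hnot
  have hm : ⁅n, x⁆ ∈ zpowers x := by
    rw [commutatorElement_def]
    exact mul_mem ((mem_normalizer_iff.mp hn x).mp (mem_zpowers x)) (inv_mem (mem_zpowers x))
  have hne : ⁅n, x⁆ ≠ 1 := fun e => hnx (h.mem_of_commute
    (commutatorElement_eq_one_iff_mul_comm.mp e))
  have hc : zpowers ⁅n, x⁆ ≤ commutator G := Subgroup.zpowers_le.mpr (by
    rw [_root_.commutator_def]; exact commutator_mem_commutator (mem_top _) (mem_top _))
  exact hc (h.zpowers_eq hm hne ▸ mem_zpowers x)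

theorem commutator_le {S : Subgroup G} [S.Normal] (hS : p ∣ Nat.card S) : commutator G ≤ S :=
  (S4496.result p h.prime x h.ord h.cent S).1 hS

theorem sup_normalizer {S : Subgroup G} [S.Normal] (hx : x ∈ S) :
    normalizer (zpowers x : Set G) ⊔ S = ⊤ := by
  haveI := Fact.mk h.prime
  obtain ⟨P, hP⟩ := h.exists_sylow
  have hle : (P : Subgroup G) ≤ S := hP ▸ Subgroup.zpowers_le.mpr hx
  have := Sylow.normalizer_sup_eq_top' P hle
  rw [← hP]
  exact this

theorem index_dvd_idx {S : Subgroup G} [S.Normal] (hx : x ∈ S) : S.index ∣ idx x := by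
  have e1 := Subgroup.relIndex_sup_right (H := normalizer (zpowers x : Set G)) (K := S)
  rw [h.sup_normalizer hx, relIndex_top_right] at e1
  rw [e1]
  exact relIndex_dvd_of_le_left _ (Subgroup.zpowers_le.mpr hx)

end Hyp

end Cfsg.Agent.SelfCentPrime
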