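import Cfsg.Agent.Lib.SelfCentPrime.Basic
import Cfsg.Agent.Lib.CT.Orthogonality
import Cfsg.Agent.Lib.OddChar.GaloisChar
import Mathlib.Analysis.SpecialFunctions.Complex.CircleAddChar
import Mathlib.LinearAlgebra.Eigenspace.Basic
import Mathlib.Data.Nat.ChineseRemainder

/-!
# Characters of degree `p - 1` with a self-centralizing element of order `p`

Such a character restricts to the subgroup of order `p` as the regular character minus the
principal one, and an element of the normalizer of 2-power order has determinant `-1` when the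
number of classes of elements of order `p` is odd.
-/

set_option linter.unusedSectionVars false

namespace Cfsg.Agent.SelfCentPrime

open scoped ComplexConjugate
open Cfsg

universe u

section Fourier

variable {p : ℕ} [hp : Fact p.Prime]

theorem sum_char_mul (a : ZMod p) :
    ∑ k : ZMod p, (ZMod.stdAddChar (a * k) : ℂ) = if a = 0 then (p : ℂ) else 0 := by
  classical
  have := AddChar.sum_mulShift (R' := ℂ) a (ZMod.isPrimitive_stdAddChar p)
  simp only [mul_comm _ a, ZMod.card] at this
  refine this.trans ?_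
  split_ifs <;> simp

/-- The exponential sum of a multiplicity function. -/
noncomputable def hat (μ : ZMod p → ℕ) (k : ZMod p) : ℂ :=
  ∑ c, (μ c : ℂ) * ZMod.stdAddChar (k * c)

theorem hat_injective {μ ν : ZMod p → ℕ} (h : ∀ k, hat μ k = hat ν k) : μ = ν := by
  have e : ∀ (μ : ZMod p → ℕ) (c : ZMod p),
      ∑ k, hat μ k * ZMod.stdAddChar (-(c * k)) = (p : ℂ) * (μ c : ℂ) := by
    intro μ c
    simp only [hat, Finset.sum_mul, mul_assoc, ← AddChar.map_add_eq_mul]
    rw [Finset.sum_comm, Finset.sum_congr rfl fun d _ => by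
      rw [← Finset.mul_sum, Finset.sum_congr rfl fun k _ => by
        rw [show k * d + -(c * k) = (d - c) * k by ring], sum_char_mul]]
    simp [sub_eq_zero, mul_comm]
  funext c
  have h1 := e μ c
  rw [Finset.sum_congr rfl fun k _ => by rw [h k], e ν c] at h1
  exact_mod_cast (mul_left_cancel₀ (Nat.cast_ne_zero.mpr hp.out.ne_zero) h1).symm

theorem sum_normSq_hat (μ : ZMod p → ℕ) :
    ∑ k, hat μ k * conj (hat μ k) = (p : ℂ) * ∑ c, (μ c : ℂ) ^ 2 := by
  have hc : ∀ a : ZMod p, conj (ZMod.stdAddChar a : ℂ) = ZMod.stdAddChar (-a) := fun a => by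
    rw [AddChar.map_neg_eq_inv, ← Complex.inv_eq_conj]
    rw [ZMod.stdAddChar_apply, Circle.norm_coe]
  simp only [hat, map_sum, map_mul, map_natCast, hc, Finset.sum_mul_sum]
  rw [Finset.sum_comm, Finset.mul_sum]
  refine Finset.sum_congr rfl fun c _ => ?_
  rw [Finset.sum_comm, Finset.sum_congr rfl fun d _ => by
    rw [Finset.sum_congr rfl fun k _ => show (μ c : ℂ) * ZMod.stdAddChar (k * c) *
      ((μ d : ℂ) * ZMod.stdAddChar (-(k * d))) = (μ c : ℂ) * (μ d : ℂ) * ZMod.stdAddChar ((c - d) * k) by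
        rw [mul_mul_mul_comm, ← AddChar.map_add_eq_mul,
          show k * c + -(k * d) = (c - d) * k by ring],
      ← Finset.mul_sum, sum_char_mul]]
  simp [sub_eq_zero, sq, mul_comm, mul_left_comm]

theorem sum_units {R : Type*} [AddCommMonoid R] (F : ZMod p → R) :
    ∑ i, F i = F 0 + ∑ a : (ZMod p)ˣ, F (a : ZMod p) := by
  rw [← Finset.add_sum_erase _ _ (Finset.mem_univ (0 : ZMod p))]
  congr 1
  exact (Finset.sum_bij (fun (a : (ZMod p)ˣ) _ => (a : ZMod p))
    (fun a _ => Finset.mem_erase.mpr ⟨Units.ne_zero a, Finset.mem_univ _⟩)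
    (fun a _ b _ h => Units.ext h)
    (fun i hi => ⟨Units.mk0 i (Finset.ne_of_mem_erase hi), Finset.mem_univ _, rfl⟩)
    fun a _ => rfl).symm

open Classical in
/-- A function of total `p - 1`, of small square sum and invariant under at least two units is one
off zero. -/
theorem eq_one_off_zero (J : Subgroup (ZMod p)ˣ) (hJ : 2 ≤ Nat.card J) (μ : ZMod p → ℕ)
    (hinv : ∀ u ∈ J, ∀ c : ZMod p, μ ((u : (ZMod p)ˣ) * c) = μ c) (hsum : ∑ c, μ c + 1 = p)
    (hsq : ∑ c, μ c ^ 2 + 1 < p + Nat.card J) :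
    μ 0 = 0 ∧ ∀ u : (ZMod p)ˣ, μ (u : ZMod p) = 1 := by
  haveI : Fintype J := Fintype.ofFinite _
  set A : (ZMod p)ˣ → ℤ := fun u => (μ (u : ZMod p) : ℤ) - 1 with hA
  have hAinv : ∀ u ∈ J, ∀ v, A (u * v) = A v := fun u hu v => by
    simp only [hA, Units.val_mul, hinv u hu]
  have hcu : (Fintype.card (ZMod p)ˣ : ℤ) = (p : ℤ) - 1 := by
    rw [ZMod.card_units, Nat.cast_sub hp.out.one_le, Nat.cast_one]
  have h1 : ∑ u, A u = -(μ 0 : ℤ) := by
    have h := congrArg (Nat.cast : ℕ → ℤ) hsum
    rw [sum_units] at h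
    push_cast at h
    simp only [hA, Finset.sum_sub_distrib, Finset.sum_const, Finset.card_univ, nsmul_one, hcu]
    linarith
  have h2 : ∑ u, A u ^ 2 + (μ 0 : ℤ) ^ 2 < (Nat.card J : ℤ) + 2 * (μ 0 : ℤ) := by
    have h := Int.ofNat_lt.mpr hsq
    rw [sum_units (fun c => μ c ^ 2)] at h
    push_cast at h
    have e : ∀ u, A u ^ 2 = (μ (u : ZMod p) : ℤ) ^ 2 - 2 * A u - 1 := fun u => by simp only [hA]; ring
    rw [Finset.sum_congr rfl fun u _ => e u, Finset.sum_sub_distrib, Finset.sum_sub_distrib,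
      ← Finset.mul_sum, h1, Finset.sum_const, Finset.card_univ, nsmul_one, hcu]
    linarith
  have hsqnn : 0 ≤ ∑ u, A u ^ 2 := Finset.sum_nonneg fun u _ => sq_nonneg _
  -- the sum over the cosets
  have hdiv : (Nat.card J : ℤ) ∣ ∑ u, A u := by
    haveI : Fintype ((ZMod p)ˣ ⧸ J) := Fintype.ofFinite _
    rw [← Finset.sum_fiberwise Finset.univ (fun a => (QuotientGroup.mk a : (ZMod p)ˣ ⧸ J))]
    refine Finset.dvd_sum fun q _ => ?_
    obtain ⟨a, rfl⟩ := QuotientGroup.mk_surjective q
    have hconst : ∀ b ∈ Finset.univ.filter fun b => (QuotientGroup.mk b : (ZMod p)ˣ ⧸ J) =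
        QuotientGroup.mk a, A b = A a := fun b hb => by
      have := QuotientGroup.eq.mp (Finset.mem_filter.mp hb).2.symm
      rw [← hAinv _ this a, mul_comm a⁻¹, mul_assoc, inv_mul_cancel, mul_one]
    rw [Finset.sum_congr rfl hconst, Finset.sum_const, nsmul_eq_mul]
    refine dvd_mul_of_dvd_left (dvd_of_eq ?_) _
    rw [Nat.cast_inj, ← Fintype.card_coe, Nat.card_eq_fintype_card]
    refine Fintype.card_congr
      { toFun := fun v => ⟨a * v, Finset.mem_filter.mpr ⟨Finset.mem_univ _,
          QuotientGroup.mk_mul_of_mem a v.2⟩⟩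
        invFun := fun b => ⟨a⁻¹ * b, QuotientGroup.eq.mp (Finset.mem_filter.mp b.2).2.symm⟩
        left_inv := fun v => Subtype.ext (inv_mul_cancel_left _ _)
        right_inv := fun b => Subtype.ext (mul_inv_cancel_left _ _) }
  have hbig : ∀ v, A v ≠ 0 → (Nat.card J : ℤ) ≤ ∑ u, A u ^ 2 := by
    intro v hv
    refine le_trans ?_ (Finset.sum_le_sum_of_subset_of_nonneg
      (Finset.subset_univ (Finset.univ.image fun u : J => (u : (ZMod p)ˣ) * v)) fun u _ _ => sq_nonneg _)
    rw [Finset.sum_image fun a _ b _ e => Subtype.ext (mul_right_cancel e),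
      Finset.sum_congr rfl fun u _ => by rw [hAinv _ u.2 v], Finset.sum_const, Finset.card_univ,
      nsmul_eq_mul, Nat.card_eq_fintype_card]
    have : 1 ≤ A v ^ 2 := Int.one_le_abs hv |> fun h => by nlinarith [sq_abs (A v)]
    nlinarith
  have hJ' : (2 : ℤ) ≤ (Nat.card J : ℤ) := by exact_mod_cast hJ
  have hall : ∀ v, A v = 0 := by
    intro v
    by_contra hv
    have hb := hbig v hv
    have hm : (μ 0 : ℤ) = 1 := by
      have h0 : 0 ≤ (μ 0 : ℤ) := Int.natCast_nonneg _
      have hle : (μ 0 : ℤ) ≤ 1 := by nlinarith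
      have hne : (μ 0 : ℤ) ≠ 0 := fun e => by rw [e] at h2; linarith
      omega
    rw [h1, hm] at hdiv
    have := Int.le_of_dvd one_pos (dvd_neg.mp hdiv)
    omega
  refine ⟨?_, fun u => ?_⟩
  · have : ∑ u, A u = 0 := Finset.sum_eq_zero fun u _ => hall u
    have : (μ 0 : ℤ) = 0 := by linarith
    exact_mod_cast this
  · have := hall u
    simp only [hA] at this
    omega

end Fourier

variable {G : Type u} [Group G] [Finite G] {p : ℕ} {x : G}

namespace Hyp

variable (h : Hyp p x)
include h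

/-- A character of degree `p - 1` takes the value `-1` at the powers of the element. -/
theorem value_of_deg (he : idx x ≠ 1) (χ : IrrCharacter G) (hdeg : CT.deg (χ : G → ℂ) + 1 = p)
    (hp2 : p ≠ 2) {i : ℕ} (hi : ¬ p ∣ i) : (χ : G → ℂ) (x ^ i) = -1 := by
  classical
  haveI := Fact.mk h.prime
  haveI := Fintype.ofFinite G
  have hχc := CT.isCharacter_of_isIrr χ.2
  obtain ⟨m, ρ, hρ⟩ := hχc
  obtain ⟨ω, hω, hev⟩ := CT.exists_eigenvalues ρ x
  have hfin : Module.finrank ℂ (Fin m → ℂ) + 1 = p := by rw [← CT.deg_eq_finrank ρ, hρ]; exact hdeg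
  generalize Module.finrank ℂ (Fin m → ℂ) = n at ω hω hev hfin
  -- exponents of the eigenvalues
  have hexp : ∀ j, ∃ a : ZMod p, (ZMod.stdAddChar a : ℂ) = ω j := by
    intro j
    have hprim : IsPrimitiveRoot (ZMod.stdAddChar (1 : ZMod p) : ℂ) p := by
      refine IsPrimitiveRoot.iff_orderOf.mpr (orderOf_eq_prime ?_ fun e => ?_)
      · rw [← AddChar.map_nsmul_eq_pow, nsmul_one, ZMod.natCast_self, AddChar.map_zero_eq_one]
      · exact one_ne_zero (ZMod.injective_stdAddChar (e.trans (AddChar.map_zero_eq_one _).symm))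
    obtain ⟨a, -, ha⟩ := hprim.eq_pow_of_pow_eq_one (h.ord ▸ hω j)
    exact ⟨(a : ZMod p), by rw [← ha, ← AddChar.map_nsmul_eq_pow, nsmul_one]⟩
  choose a ha using hexp
  set μ : ZMod p → ℕ := fun c => (Finset.univ.filter fun j => a j = c).card with hμ
  have hval : ∀ k : ℕ, (χ : G → ℂ) (x ^ k) = hat μ (k : ZMod p) := by
    intro k
    rw [← hρ, hev, hat, ← Finset.sum_fiberwise Finset.univ a]
    refine Finset.sum_congr rfl fun c _ => ?_
    rw [Finset.sum_congr rfl fun j hj => show ω j ^ k = ZMod.stdAddChar ((k : ZMod p) * c) by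
      rw [← ha j, (Finset.mem_filter.mp hj).2, ← AddChar.map_nsmul_eq_pow, nsmul_eq_mul],
      Finset.sum_const, nsmul_eq_mul]
  have hsum : ∑ c, μ c + 1 = p := by
    have e : ∑ c, μ c = n := by
      simp only [hμ]
      rw [Finset.sum_card_fiberwise_eq_card_filter]
      simp
    omega
  -- the stabilizer
  let J : Subgroup (ZMod p)ˣ :=
    { carrier := {u | ∀ c : ZMod p, μ ((u : ZMod p) * c) = μ c}
      one_mem' := fun c => by simp
      mul_mem' := fun {u v} hu hv c => by rw [Units.val_mul, mul_assoc, hu, hv]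
      inv_mem' := fun {u} hu c => by rw [← hu, ← mul_assoc, ← Units.val_mul, mul_inv_cancel, Units.val_one, one_mul] }
  have hJmem : ∀ u : (ZMod p)ˣ, (∀ k : ZMod p, hat μ (k * (u : ZMod p)) = hat μ k) → u ∈ J := by
    intro u hu c
    have e : (fun c : ZMod p => μ ((u : ZMod p) * c)) = μ := by
      refine hat_injective fun k => ?_
      have e1 := hu (k * ((u⁻¹ : (ZMod p)ˣ) : ZMod p))
      rw [mul_assoc, Units.inv_mul, mul_one] at e1
      refine Eq.trans ?_ e1.symm
      refine Fintype.sum_equiv (Units.mulLeft u) _ _ fun d => ?_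
      rw [Units.mulLeft_apply, mul_assoc k, Units.inv_mul_cancel_left]
    exact congrFun e c
  have hJ2 : 2 ≤ Nat.card J := by
    obtain ⟨w, hw, hwx⟩ : ∃ w ∈ Subgroup.normalizer (Subgroup.zpowers x : Set G),
        w ∉ Subgroup.zpowers x :=
      SetLike.not_le_iff_exists.mp fun hle => he (Subgroup.relIndex_eq_one.mpr hle)
    obtain ⟨r, hr⟩ := mem_powers_iff_mem_zpowers.mpr
      ((Subgroup.mem_normalizer_iff.mp hw x).mp (Subgroup.mem_zpowers x))
    have hr0 : (r : ZMod p) ≠ 0 := fun e => by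
      rw [ZMod.natCast_eq_zero_iff] at e
      have h1 : x ^ r = 1 := by rw [← h.ord] at e; exact orderOf_dvd_iff_pow_eq_one.mp e
      simp only at hr
      rw [h1] at hr
      exact h.prime.ne_one (by rw [← h.ord, conj_eq_one_iff.mp hr.symm, orderOf_one])
    have hmem : Units.mk0 (r : ZMod p) hr0 ∈ J := by
      refine hJmem _ fun k => ?_
      rw [Units.val_mk0, ← ZMod.natCast_zmod_val k, ← Nat.cast_mul, ← hval, ← hval, mul_comm,
        pow_mul, show x ^ r = w * x * w⁻¹ from hr, conj_pow]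
      exact CT.isClassFunction_of_isIrr χ.2 _ _
    have hne : Units.mk0 (r : ZMod p) hr0 ≠ 1 := fun e => hwx (h.mem_of_commute (by
      have e' : (r : ZMod p) = ((1 : ℕ) : ZMod p) := by simpa using congrArg Units.val e
      rw [ZMod.natCast_eq_natCast_iff] at e'
      have h1 : x ^ r = x := by
        conv_rhs => rw [← pow_one x]
        exact pow_eq_pow_iff_modEq.mpr (h.ord.symm ▸ e')
      have h2 : w * x * w⁻¹ = x := hr.symm.trans h1
      exact mul_inv_eq_iff_eq_mul.mp h2))
    haveI : Nontrivial J := ⟨⟨⟨_, hmem⟩, 1, fun e => hne (congrArg Subtype.val e)⟩⟩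
    exact Finite.one_lt_card
  haveI : Fintype ((ZMod p)ˣ ⧸ J) := Fintype.ofFinite _
  haveI : Fintype J := Fintype.ofFinite _
  -- the conjugate characters
  set m0 := Nat.card G / p with hm0
  have hG : p * m0 = Nat.card G := Nat.mul_div_cancel' (h.ord ▸ orderOf_dvd_natCard x)
  have hcop : p.Coprime m0 := by
    refine h.prime.coprime_iff_not_dvd.mpr fun hd => ?_
    obtain ⟨P, hP⟩ := h.exists_sylow
    have := P.not_dvd_index
    have e2 := Subgroup.card_mul_index (P : Subgroup G)
    rw [hP, h.card_zp] at e2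
    rw [hP] at this
    exact this ((Nat.eq_of_mul_eq_mul_left h.prime.pos (e2.trans hG.symm)).symm ▸ hd)
  have hconj : ∀ q : (ZMod p)ˣ ⧸ J, ∃ (ψ : IrrCharacter G) (u : (ZMod p)ˣ),
      QuotientGroup.mk u = q ∧ ∀ k : ℕ, (ψ : G → ℂ) (x ^ k) = hat μ ((k : ZMod p) * (u : ZMod p)) := by
    intro q
    obtain ⟨u, rfl⟩ := QuotientGroup.mk_surjective q
    obtain ⟨j, hj1, hj2⟩ := Nat.chineseRemainder hcop ((u : ZMod p).val) 1
    have hjc : j.Coprime (Nat.card G) := by
      rw [← hG]
      refine Nat.Coprime.mul_right ?_ ?_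
      · rw [Nat.coprime_iff_gcd_eq_one, hj1.gcd_eq, ← Nat.coprime_iff_gcd_eq_one]
        exact ZMod.val_coe_unit_coprime u
      · rw [Nat.coprime_iff_gcd_eq_one, hj2.gcd_eq]; simp
    have hc := OddChar.isCharacter_map_pow (CT.isCharacter_of_isIrr χ.2) hjc
    have hi : classInner (fun g => (χ : G → ℂ) (g ^ j)) (fun g => (χ : G → ℂ) (g ^ j)) = 1 := by
      rw [← CT.irr_inner_self χ.2]
      simp only [classInner]
      congr 1
      exact Function.Bijective.sum_comp (powCoprime hjc.symm).bijective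
        fun g => (χ : G → ℂ) g * conj ((χ : G → ℂ) g)
    refine ⟨⟨_, CT.isIrr_of_inner_self hc hi⟩, u, rfl, fun k => ?_⟩
    show (χ : G → ℂ) ((x ^ k) ^ j) = _
    rw [← pow_mul, hval, Nat.cast_mul]
    congr 2
    have := (ZMod.natCast_eq_natCast_iff _ _ _).mpr hj1
    rwa [ZMod.natCast_zmod_val] at this
  choose Ψ U hU hΨ using hconj
  have hinjΨ : Function.Injective Ψ := by
    intro q q' e
    have hk : ∀ k : ZMod p, hat μ (k * (U q : ZMod p)) = hat μ (k * (U q' : ZMod p)) := fun k => by
      rw [← ZMod.natCast_zmod_val k, ← hΨ, ← hΨ, e]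
    rw [← hU q, ← hU q', QuotientGroup.eq]
    refine hJmem _ fun k => ?_
    have := hk (k * ((U q)⁻¹ : (ZMod p)ˣ))
    rw [mul_assoc, Units.inv_mul, mul_one, mul_assoc] at this
    rw [Units.val_mul]
    exact this.symm
  have hΨnt : ∀ q, ((Ψ q : IrrCharacter G) : G → ℂ) ≠ fun _ => 1 := fun q e => by
    have h1 := hΨ q 0
    rw [e, Nat.cast_zero, zero_mul] at h1
    have h2 : hat μ 0 = ((p : ℂ) - 1) := by
      simp only [hat, zero_mul, AddChar.map_zero_eq_one, mul_one]
      rw [eq_sub_iff_add_eq]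
      exact_mod_cast hsum
    rw [h2] at h1
    have : (2 : ℕ) = p := Nat.cast_injective (R := ℂ) (by push_cast; linear_combination h1)
    exact hp2 this.symm
  -- column orthogonality
  have hcol : (1 : ℝ) + ∑ q, Complex.normSq (hat μ (U q : ZMod p)) ≤ p := by
    have hc := congrArg Complex.re (CT.column_orthogonality x x)
    rw [if_pos (IsConj.refl x), h.cent, h.card_zp, Complex.natCast_re, Complex.re_sum] at hc
    rw [← hc]
    have hre : ∀ ψ : IrrCharacter G, ((ψ : G → ℂ) x * conj ((ψ : G → ℂ) x)).re =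
        Complex.normSq ((ψ : G → ℂ) x) := fun ψ => by rw [Complex.mul_conj, Complex.ofReal_re]
    simp only [hre]
    have hone : CT.trivIrr G ∉ Finset.univ.image Ψ := fun hm => by
      obtain ⟨q, -, hq⟩ := Finset.mem_image.mp hm
      exact hΨnt q (by rw [hq]; rfl)
    refine le_trans (le_of_eq ?_) (Finset.sum_le_sum_of_subset_of_nonneg
      (Finset.subset_univ (insert (CT.trivIrr G) (Finset.univ.image Ψ))) fun ψ _ _ => Complex.normSq_nonneg _)
    rw [Finset.sum_insert hone, Finset.sum_image fun a _ b _ e => hinjΨ e]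
    congr 1
    · simp [CT.trivIrr]
    · refine Finset.sum_congr rfl fun q _ => ?_
      have := hΨ q 1
      rw [pow_one, Nat.cast_one, one_mul] at this
      rw [this]
  -- the square sum
  have hfib : ∑ u : (ZMod p)ˣ, Complex.normSq (hat μ (u : ZMod p)) =
      (Nat.card J : ℝ) * ∑ q, Complex.normSq (hat μ (U q : ZMod p)) := by
    have hinvJ : ∀ v ∈ J, ∀ k : ZMod p, hat μ (k * ((v : (ZMod p)ˣ) : ZMod p)) = hat μ k := by
      intro v hv k
      refine Fintype.sum_equiv (Units.mulLeft v) _ _ fun d => ?_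
      rw [Units.mulLeft_apply, hv, mul_assoc]
    rw [← (Subgroup.groupEquivQuotientProdSubgroup (s := J)).symm.sum_comp, Finset.mul_sum,
      Fintype.sum_prod_type]
    refine Finset.sum_congr rfl fun q _ => ?_
    rw [Finset.sum_congr rfl fun v _ => show _ = Complex.normSq (hat μ (U q : ZMod p)) by
      set z := (Subgroup.groupEquivQuotientProdSubgroup (s := J)).symm (q, v)
      have hz : (QuotientGroup.mk z : (ZMod p)ˣ ⧸ J) = q := by
        have := (Subgroup.groupEquivQuotientProdSubgroup (s := J)).apply_symm_apply (q, v)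
        exact congrArg Prod.fst this
      have hm : (U q)⁻¹ * z ∈ J := QuotientGroup.eq.mp ((hU q).trans hz.symm)
      rw [← hinvJ _ hm (U q : ZMod p), ← Units.val_mul, mul_inv_cancel_left]]
    rw [Finset.sum_const, Finset.card_univ, nsmul_eq_mul, Nat.card_eq_fintype_card]
  have hpar : Complex.normSq (hat μ 0) + ∑ u : (ZMod p)ˣ, Complex.normSq (hat μ (u : ZMod p)) =
      (p : ℝ) * ((∑ c, μ c ^ 2 : ℕ) : ℝ) := by
    rw [← sum_units (fun k => Complex.normSq (hat μ k))]
    apply Complex.ofReal_injective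
    push_cast
    rw [← sum_normSq_hat]
    exact Finset.sum_congr rfl fun k _ => (Complex.mul_conj _).symm
  have h0 : Complex.normSq (hat μ 0) = ((p : ℝ) - 1) ^ 2 := by
    have h2 : hat μ 0 = (((p : ℝ) - 1 : ℝ) : ℂ) := by
      simp only [hat, zero_mul, AddChar.map_zero_eq_one, mul_one, ← Nat.cast_sum]
      push_cast
      rw [eq_sub_iff_add_eq]
      exact_mod_cast hsum
    rw [h2, Complex.normSq_ofReal, sq]
  have hsq : ∑ c, μ c ^ 2 + 1 < p + Nat.card J := by
    rw [hfib, h0] at hpar
    have hp1 : (2 : ℝ) ≤ p := by exact_mod_cast h.prime.two_le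
    have hj : (2 : ℝ) ≤ (Nat.card J : ℝ) := by exact_mod_cast hJ2
    have hS : ∑ q, Complex.normSq (hat μ (U q : ZMod p)) ≤ (p : ℝ) - 1 := by linarith
    have h3 : (p : ℝ) * ((∑ c, μ c ^ 2 : ℕ) : ℝ) < (p : ℝ) * ((p : ℝ) - 1 + Nat.card J) := by
      have := mul_le_mul_of_nonneg_left hS (le_of_lt (lt_of_lt_of_le two_pos hj))
      nlinarith
    have h4 : ((∑ c, μ c ^ 2 + 1 : ℕ) : ℝ) < ((p + Nat.card J : ℕ) : ℝ) := by
      have := lt_of_mul_lt_mul_left h3 (by linarith)
      push_cast at this ⊢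
      linarith
    exact_mod_cast h4
  obtain ⟨hm0', hm1⟩ := eq_one_off_zero J hJ2 μ (fun u hu c => hu c) hsum hsq
  rw [hval, hat, sum_units, hm0', Nat.cast_zero, zero_mul, zero_add]
  simp only [hm1, Nat.cast_one, one_mul]
  have := sum_char_mul (i : ZMod p)
  rw [sum_units, mul_zero, AddChar.map_zero_eq_one,
    if_neg (by rwa [ZMod.natCast_eq_zero_iff])] at this
  exact eq_neg_of_add_eq_zero_right this

/-- With an odd number of classes the determinant of such a character is not trivial. -/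
theorem even_index_of_deg (χ : IrrCharacter G) (hdeg : CT.deg (χ : G → ℂ) + 1 = p) (hp2 : p ≠ 2)
    {t : ℕ} (ht : t * idx x = p - 1) (hto : ¬ Even t) : Even (commutator G).index := by
  classical
  haveI := Fact.mk h.prime
  haveI : Fact (Nat.Prime 2) := ⟨Nat.prime_two⟩
  haveI := Fintype.ofFinite G
  have hpodd : Odd p := h.prime.odd_of_ne_two hp2
  have hev : Even (idx x) := by
    have : Even (t * idx x) := by
      rw [ht]
      obtain ⟨k, hk⟩ := hpodd
      exact ⟨k, by omega⟩
    exact (Nat.even_mul.mp this).resolve_left hto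
  have hepos : 0 < idx x := Nat.pos_of_ne_zero fun e => by
    rw [e, mul_zero] at ht; have := h.prime.two_le; omega
  have he1 : idx x ≠ 1 := fun e => by simp [e] at hev
  -- an element of the normalizer of full 2-power order
  set N := Subgroup.normalizer (Subgroup.zpowers x : Set G) with hN
  obtain ⟨S⟩ : Nonempty (Sylow 2 N) := inferInstance
  have hSc : Nat.card (S : Subgroup N) = 2 ^ (idx x).factorization 2 := by
    rw [S.card_eq_multiplicity, h.card_normalizer, Nat.factorization_mul hepos.ne' h.prime.ne_zero,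
      Finsupp.add_apply, h.prime.factorization, Finsupp.single_eq_of_ne (Ne.symm hp2), add_zero]
  set s := (idx x).factorization 2
  have hs1 : 1 ≤ s := Nat.prime_two.factorization_pos_of_dvd hepos.ne' (even_iff_two_dvd.mp hev)
  -- the action on the subgroup of order `p`
  have hconj : ∀ g : N, ∃ r : ℕ, (g : G) * x * (g : G)⁻¹ = x ^ r := fun g => by
    obtain ⟨r, hr⟩ := mem_powers_iff_mem_zpowers.mpr
      ((Subgroup.mem_normalizer_iff.mp g.2 x).mp (Subgroup.mem_zpowers x))
    exact ⟨r, hr.symm⟩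
  choose R hR using hconj
  have hRm : ∀ g g' : N, ((R (g * g') : ℕ) : ZMod p) = (R g : ZMod p) * (R g' : ZMod p) := fun g g' => by
    rw [← Nat.cast_mul, ZMod.natCast_eq_natCast_iff, ← h.ord, ← pow_eq_pow_iff_modEq, ← hR,
      pow_mul, ← hR g, conj_pow, ← hR g']
    simp [mul_assoc]
  have hR1 : ((R 1 : ℕ) : ZMod p) = 1 := by
    rw [← Nat.cast_one, ZMod.natCast_eq_natCast_iff, ← h.ord, ← pow_eq_pow_iff_modEq, ← hR 1]
    simp
  let φ : (S : Subgroup N) →* ZMod p :=
    { toFun := fun g => (R g : ZMod p)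
      map_one' := hR1
      map_mul' := fun a b => hRm a b }
  have hker : Function.Injective φ := by
    intro a b e
    have hab : ((R ((a⁻¹ * b : (S : Subgroup N)) : N) : ℕ) : ZMod p) = 1 := by
      show φ (a⁻¹ * b) = 1
      rw [map_mul, ← e, ← map_mul, inv_mul_cancel, map_one]
    rw [← Nat.cast_one, ZMod.natCast_eq_natCast_iff, ← h.ord, ← pow_eq_pow_iff_modEq, ← hR, pow_one,
      mul_inv_eq_iff_eq_mul] at hab
    have hmem := h.mem_of_commute hab
    have h2 := Subgroup.orderOf_dvd_natCard (Subgroup.zpowers x) hmem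
    rw [h.card_zp, Subgroup.orderOf_coe, Subgroup.orderOf_coe] at h2
    have h3 := orderOf_dvd_natCard (a⁻¹ * b)
    rw [hSc] at h3
    have hc : p.Coprime (2 ^ s) := ((Nat.coprime_primes h.prime Nat.prime_two).mpr hp2).pow_right s
    exact inv_mul_eq_one.mp (orderOf_eq_one_iff.mp (Nat.eq_one_of_dvd_coprimes hc h2 h3))
  haveI : IsCyclic (S : Subgroup N) := isCyclic_of_subgroup_isDomain φ hker
  obtain ⟨w, hw⟩ := IsCyclic.exists_generator (α := (S : Subgroup N))
  have hwo : orderOf ((w : N) : G) = 2 ^ s := by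
    rw [Subgroup.orderOf_coe, Subgroup.orderOf_coe, orderOf_eq_card_of_forall_mem_zpowers hw, hSc]
  set w0 : G := ((w : N) : G)
  -- the traces of the powers
  obtain ⟨m, ρ, hρ⟩ := CT.isCharacter_of_isIrr χ.2
  have hval : ∀ i ∈ Finset.range p, ρ.character (x ^ i) = if i = 0 then (p : ℂ) - 1 else -1 := by
    intro i hi
    by_cases h0 : i = 0
    · rw [h0, if_pos rfl, pow_zero, hρ, CT.deg_eq (CT.isCharacter_of_isIrr χ.2), eq_sub_iff_add_eq]
      exact_mod_cast hdeg
    · rw [if_neg h0, hρ, h.value_of_deg he1 χ hdeg hp2 fun hd => h0 (Nat.eq_zero_of_dvd_of_lt hd (Finset.mem_range.mp hi))]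
  set E : Module.End ℂ (Fin m → ℂ) := ∑ i ∈ Finset.range p, ρ (x ^ i) with hE
  have hEmul : ∀ j, ρ (x ^ j) * E = E := by
    intro j
    induction j with
    | zero => simp
    | succ j ih =>
      rw [pow_succ, map_mul, mul_assoc]
      have : ρ x * E = E := by
        rw [hE, Finset.mul_sum]
        simp only [← map_mul, ← pow_succ']
        have e := Finset.sum_range_succ (fun i => ρ (x ^ i)) p
        rw [Finset.sum_range_succ' (fun i => ρ (x ^ i)) p, show x ^ p = 1 from h.ord ▸ pow_orderOf_eq_one x,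
          pow_zero] at e
        exact add_right_cancel e
      rw [this, ih]
  have hE0 : E = 0 := by
    have hidem : E * E = (p : ℂ) • E := by
      nth_rewrite 1 [hE]
      rw [Finset.sum_mul, Finset.sum_congr rfl fun i _ => hEmul i, Finset.sum_const, Finset.card_range,
        Nat.cast_smul_eq_nsmul]
    have htr : LinearMap.trace ℂ _ E = 0 := by
      rw [hE, map_sum]
      show ∑ i ∈ Finset.range p, ρ.character (x ^ i) = 0
      rw [Finset.sum_congr rfl hval, ← Finset.add_sum_erase _ _ (Finset.mem_range.mpr h.prime.pos),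
        if_pos rfl, Finset.sum_congr rfl fun i hi => if_neg (Finset.ne_of_mem_erase hi),
        Finset.sum_const, Finset.card_erase_of_mem (Finset.mem_range.mpr h.prime.pos), Finset.card_range,
        nsmul_eq_mul, Nat.cast_sub h.prime.one_le]
      ring
    set F := (p : ℂ)⁻¹ • E
    have hpC : (p : ℂ) ≠ 0 := Nat.cast_ne_zero.mpr h.prime.ne_zero
    have hF : IsIdempotentElem F := by
      show F * F = F
      simp only [F, smul_mul_smul_comm, hidem, smul_smul]
      congr 1
      field_simp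
    have hproj := (LinearMap.isProj_range_iff_isIdempotentElem F).mpr hF
    have h1 := hproj.trace
    rw [map_smul, htr, smul_zero] at h1
    have h2 : LinearMap.range F = ⊥ := Submodule.finrank_eq_zero.mp (by exact_mod_cast h1.symm)
    have h3 : F = 0 := LinearMap.range_eq_bot.mp h2
    simpa [F, hpC] using h3
  have htr0 : ∀ j : ℕ, ¬ 2 ^ s ∣ j → ρ.character (w0 ^ j) = 0 := by
    intro j hj
    have hw0N : w0 ^ j ∈ N := pow_mem (w : N).2 j
    have key : ∀ i, ρ.character (w0 ^ j * x ^ i) = ρ.character (w0 ^ j) := by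
      intro i
      -- every element of the coset is conjugate to the power
      obtain ⟨r, hr⟩ := mem_powers_iff_mem_zpowers.mpr
        ((Subgroup.mem_normalizer_iff.mp (inv_mem hw0N) x).mp (Subgroup.mem_zpowers x))
      simp only [inv_inv] at hr
      have hr1 : (r : ZMod p) - 1 ≠ 0 := by
        rw [sub_ne_zero, ← Nat.cast_one, Ne, ZMod.natCast_eq_natCast_iff, ← h.ord,
          ← pow_eq_pow_iff_modEq, pow_one, hr]
        intro e
        have hc : w0 ^ j ∈ Subgroup.zpowers x := h.mem_of_commute (by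
          calc w0 ^ j * x = w0 ^ j * ((w0 ^ j)⁻¹ * x * w0 ^ j) := by rw [e]
            _ = _ := by group)
        have h2 := Subgroup.orderOf_dvd_natCard (Subgroup.zpowers x) hc
        rw [h.card_zp] at h2
        have h3 := orderOf_pow_dvd (x := w0) j
        rw [hwo] at h3
        exact hj (hwo ▸ orderOf_dvd_iff_pow_eq_one.mpr (orderOf_eq_one_iff.mp (Nat.eq_one_of_dvd_coprimes
          (((Nat.coprime_primes h.prime Nat.prime_two).mpr hp2).pow_right s) h2 h3)))
      obtain ⟨k, hk⟩ : ∃ k : ℕ, ((k : ZMod p)) * ((r : ZMod p) - 1) = (i : ZMod p) :=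
        ⟨((i : ZMod p) * ((r : ZMod p) - 1)⁻¹).val, by
          rw [ZMod.natCast_zmod_val, mul_assoc, inv_mul_cancel₀ hr1, mul_one]⟩
      have hconj : x ^ k * w0 ^ j * (x ^ k)⁻¹ = w0 ^ j * x ^ i := by
        have e1 : (w0 ^ j)⁻¹ * x ^ k * w0 ^ j = x ^ (r * k) := by
          rw [pow_mul, hr]
          simpa using (conj_pow (i := k) (a := (w0 ^ j)⁻¹) (b := x)).symm
        calc x ^ k * w0 ^ j * (x ^ k)⁻¹ = w0 ^ j * ((w0 ^ j)⁻¹ * x ^ k * w0 ^ j * (x ^ k)⁻¹) := by group
          _ = _ := by
            rw [e1]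
            congr 1
            rw [mul_inv_eq_iff_eq_mul, ← pow_add, pow_eq_pow_iff_modEq, h.ord,
              ← ZMod.natCast_eq_natCast_iff]
            push_cast
            linear_combination hk
      rw [← hconj, hρ]
      exact CT.isClassFunction_of_isIrr χ.2 _ _
    have h1 : LinearMap.trace ℂ _ (ρ (w0 ^ j) * E) = 0 := by rw [hE0, mul_zero, map_zero]
    rw [hE, Finset.mul_sum, map_sum] at h1
    simp only [← map_mul] at h1
    have h2 : ∑ i ∈ Finset.range p, ρ.character (w0 ^ j * x ^ i) = 0 := h1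
    rw [Finset.sum_congr rfl fun i _ => key i, Finset.sum_const, Finset.card_range, nsmul_eq_mul] at h2
    exact (mul_eq_zero.mp h2).resolve_left (Nat.cast_ne_zero.mpr h.prime.ne_zero)
  -- the determinant
  obtain ⟨b, ω, hb, hω⟩ := CT.exists_eigenbasis (ρ w0) (pow_pos two_pos s)
    (by rw [← map_pow, show w0 ^ 2 ^ s = 1 from hwo ▸ pow_orderOf_eq_one w0, map_one])
  have hωk : ∀ k : ℕ, ρ.character (w0 ^ k) = ∑ i, ω i ^ k := fun k => by
    refine CT.trace_eq_sum_of_eigenbasis (ρ (w0 ^ k)) b _ fun i => ?_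
    induction k with
    | zero => simp
    | succ k ih => rw [pow_succ', map_mul, Module.End.mul_apply, ih, map_smul, hb, smul_smul, pow_succ]
  have hdet : LinearMap.det (ρ w0) = ∏ i, ω i := by
    rw [← LinearMap.det_toMatrix b, show LinearMap.toMatrix b b (ρ w0) = Matrix.diagonal ω from
      Matrix.ext fun i j => by
        rw [LinearMap.toMatrix_apply, hb, map_smul, Module.Basis.repr_self, Finsupp.smul_apply,
          Finsupp.single_apply, Matrix.diagonal_apply, smul_eq_mul]
        by_cases hij : i = j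
        · subst hij; simp
        · simp [hij, Ne.symm hij], Matrix.det_diagonal]
  have hprod : ∏ i, ω i = -1 := by
    set L := 2 ^ s with hL
    have hLpos : 0 < L := pow_pos two_pos s
    haveI : NeZero L := ⟨hLpos.ne'⟩
    have hζ := Complex.isPrimitiveRoot_exp L hLpos.ne'
    set ζ := Complex.exp (2 * Real.pi * Complex.I / L)
    choose a haL ha using fun i => hζ.eq_pow_of_pow_eq_one (hω i)
    have hn : Module.finrank ℂ (Fin m → ℂ) + 1 = p := by rw [← CT.deg_eq_finrank ρ, hρ]; exact hdeg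
    have hcount : ∀ l ∈ Finset.range L,
        ((Finset.univ.filter fun i => a i = l).card : ℂ) * L = ((p : ℂ) - 1) := by
      intro l hl
      have e1 : ∑ k ∈ Finset.range L, ρ.character (w0 ^ k) * (ζ ^ l)⁻¹ ^ k = (p : ℂ) - 1 := by
        rw [Finset.sum_eq_single 0 (fun k hk hk0 => by
          rw [htr0 k fun hd => hk0 (Nat.eq_zero_of_dvd_of_lt hd (Finset.mem_range.mp hk)), zero_mul])
          (fun h0 => absurd (Finset.mem_range.mpr hLpos) h0), pow_zero, pow_zero, mul_one,
          hρ, CT.deg_eq (CT.isCharacter_of_isIrr χ.2), eq_sub_iff_add_eq]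
        exact_mod_cast hdeg
      rw [← e1]
      simp only [hωk, Finset.sum_mul, ← mul_pow]
      rw [Finset.sum_comm, Finset.card_filter, Nat.cast_sum, Finset.sum_mul]
      refine Finset.sum_congr rfl fun i _ => ?_
      have hz : (ω i * (ζ ^ l)⁻¹) ^ L = 1 := by
        rw [mul_pow, hω i, inv_pow, ← pow_mul, mul_comm l, pow_mul, hζ.pow_eq_one, one_pow, inv_one, mul_one]
      by_cases hc : a i = l
      · rw [if_pos hc]
        have : ω i * (ζ ^ l)⁻¹ = 1 := by
          rw [← ha i, hc, mul_inv_cancel₀ (pow_ne_zero _ (hζ.ne_zero hLpos.ne'))]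
        simp [this]
      · rw [if_neg hc, Nat.cast_zero, zero_mul]
        have : ω i * (ζ ^ l)⁻¹ ≠ 1 := fun e => hc (hζ.pow_inj (haL i) (Finset.mem_range.mp hl) (by
          rw [ha i, ← mul_inv_eq_one₀ (pow_ne_zero _ (hζ.ne_zero hLpos.ne'))]; exact e))
        rw [geom_sum_eq this, hz, sub_self, zero_div]
    obtain ⟨c, hc⟩ : ∃ c : ℕ, t * (idx x / L) = c := ⟨_, rfl⟩
    have hcL : c * L = p - 1 := by
      rw [← hc, mul_assoc, Nat.div_mul_cancel (Nat.ordProj_dvd _ _), ht]
    have hcodd : Odd c := by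
      rw [← hc]
      exact (Nat.not_even_iff_odd.mp hto).mul
        (Nat.not_even_iff_odd.mp fun h2 => Nat.not_dvd_ordCompl Nat.prime_two hepos.ne'
          (even_iff_two_dvd.mp h2))
    have hmult : ∀ l ∈ Finset.range L, (Finset.univ.filter fun i => a i = l).card = c := fun l hl => by
      have h1 := hcount l hl
      rw [show (p : ℂ) - 1 = ((c * L : ℕ) : ℂ) by
        rw [hcL, Nat.cast_sub h.prime.one_le, Nat.cast_one]] at h1
      exact Nat.eq_of_mul_eq_mul_right hLpos (by exact_mod_cast h1)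
    rw [Finset.prod_congr rfl fun i _ => (ha i).symm,
      ← Finset.prod_fiberwise_of_maps_to (fun i _ => Finset.mem_range.mpr (haL i)),
      Finset.prod_congr rfl fun l hl => show _ = (ζ ^ l) ^ c by
        rw [Finset.prod_congr rfl fun i hi => by rw [(Finset.mem_filter.mp hi).2], Finset.prod_const,
          hmult l hl],
      Finset.prod_pow, Finset.prod_pow_eq_pow_sum]
    have hhalf : ζ ^ ∑ l ∈ Finset.range L, l = -1 := by
      obtain ⟨M, hM⟩ : ∃ M, L = 2 * M := by
        refine ⟨2 ^ (s - 1), ?_⟩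
        rw [hL, ← pow_succ', Nat.sub_add_cancel hs1]
      have hζM : ζ ^ M = -1 := (hζ.pow (a := M) hLpos (by rw [hM]; ring)).eq_neg_one_of_two_right
      have hsum : ∑ l ∈ Finset.range L, l = M * (L - 1) :=
        Nat.eq_of_mul_eq_mul_right two_pos (by rw [Finset.sum_range_id_mul_two, hM]; ring)
      rw [hsum, pow_mul, hζM]
      exact Odd.neg_one_pow ⟨M - 1, by omega⟩
    rw [hhalf]
    exact hcodd.neg_one_pow
  let lam : G →* ℂ :=
    { toFun := fun g => LinearMap.det (ρ g)
      map_one' := by rw [map_one, map_one]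
      map_mul' := fun a b => by rw [map_mul, map_mul] }
  have hlam : lam w0 = -1 := hdet.trans hprod
  -- the determinant is trivial on the commutator subgroup
  have hker : commutator G ≤ lam.toHomUnits.ker := Abelianization.commutator_subset_ker _
  have h2 : 2 ∣ lam.toHomUnits.ker.index := by
    rw [Subgroup.index_ker]
    have hmem : lam.toHomUnits w0 ∈ lam.toHomUnits.range := ⟨w0, rfl⟩
    have ho : orderOf (lam.toHomUnits w0) = 2 := by
      refine orderOf_eq_prime (Units.ext ?_) fun e => ?_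
      · rw [Units.val_pow_eq_pow_val, MonoidHom.coe_toHomUnits, hlam]; norm_num
      · have := congrArg Units.val e
        rw [MonoidHom.coe_toHomUnits, hlam, Units.val_one] at this
        norm_num at this
    exact ho ▸ Subgroup.orderOf_dvd_natCard _ hmem
  exact even_iff_two_dvd.mpr (h2.trans (Subgroup.index_dvd_of_le hker))

end Hyp

end Cfsg.Agent.SelfCentPrime
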